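import Cfsg.Agent.H92.ModelUniq

/-! Normalizer systems of centric subgroups are constrained; their cores. -/

set_option autoImplicit false

namespace Cfsg.Agent.H92

open Cfsg Cfsg.FusionSystem Cfsg.Agent.H91 Subgroup

variable {p : ℕ} {Ω : Type*} [Group Ω] {S : Subgroup Ω} {F : FusionSystem S}

/-- If every automorphism of `R` in `F` extends to a map normalizing `U ≤ N_S(R)`, then
`Aut_U(R) ≤ O_p(Aut_F(R))`. -/
theorem autInducedBy_le_opIn (hS : IsPGroup p S) {R U : Subgroup Ω} (hR : R ≤ S) (hU : U ≤ S)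
    (h : ∀ α ∈ F.autGroup R, ∃ g, M F (R ⊔ U) g ∧ (∀ x ∈ R, g x = efn α x) ∧ im g U = U) :
    autInducedBy U R ≤ opIn p (F.autGroup R) := by
  refine le_opIn (isPGroup_autInducedBy (isPGroup_of_le hS hU) R)
    ((autInducedBy_mono hU R).trans (autInducedBy_le_autGroup F hR)) fun α hα β hβ => ?_
  obtain ⟨g, hg, e, him⟩ := h α hα
  obtain ⟨u, hu, eu⟩ := mem_autInducedBy_iff'.1 hβ
  refine mem_autInducedBy_iff.2 ⟨g u, him ▸ mem_im_of_mem g hu.1, fun x => ?_⟩
  have hx := efn_mem α⁻¹ x.2
  rw [← efn_coe, efn_mul _ _ x.2, efn_mul _ _ hx, eu _ hx,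
    ← e _ (conj_mem_of_mem_normalizer hu.2 hx), hg.map_conj (mem_sup_right hu.1) (mem_sup_left hx),
    e _ hx, efn_efn_inv α x.2]

theorem normSys_isNormal {R : Subgroup Ω} (hR : R ≤ S) {E : FusionSystem (normalizerIn S R)}
    (hE : F.IsNormalizerSystem R E) : E.IsNormal R :=
  normal_in_norm hR rfl (H91.isNormalizerSystem_iff.1 hE)

theorem normSys_sub {R : Subgroup Ω} {E : FusionSystem (normalizerIn S R)}
    (hE : F.IsNormalizerSystem R E) : E.IsSubsystemOf F :=
  isSubsystemOf_iff_M.2 fun P f hf => ((H91.isNormalizerSystem_iff.1 hE P f).1 hf).toM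

theorem centric_sub {T Q : Subgroup Ω} {E : FusionSystem T} (hE : E.IsSubsystemOf F) (hQ : Q ≤ T)
    (h : F.IsCentric Q) : E.IsCentric Q := ⟨hQ, fun R hR => by
  obtain ⟨f, hf, rfl⟩ := isConj_iff.1 hR
  exact (centralizerIn_mono_left (le_of_isSubsystemOf hE) _).trans
    (h.2 _ (M.of_sub hE hf).isConj)⟩

theorem normSys_constrained [Finite S] [Fact p.Prime] (hS : IsPGroup p S) (hF : F.IsSaturated p)
    {R : Subgroup Ω} (hn : F.IsFullyNormalized R) (hc : F.IsCentric R)
    {E : FusionSystem (normalizerIn S R)} (hE : F.IsNormalizerSystem R E) : E.IsConstrained p :=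
  ⟨norm_saturated hS hF hn rfl (H91.isNormalizerSystem_iff.1 hE), R, normSys_isNormal hn.1 hE,
    centric_sub (normSys_sub hE) (le_normalizerIn hn.1) hc⟩

theorem normSys_M_aut {R : Subgroup Ω} (hR : R ≤ S) {E : FusionSystem (normalizerIn S R)}
    (hE : F.IsNormalizerSystem R E) {f : Ω → Ω} (hf : M F R f) (him : im f R = R) : M E R f :=
  (H91.isNormalizerSystem_iff.1 hE R f).2 (hf.toNM le_rfl him le_rfl (le_normalizerIn hR))

theorem normSys_autGroup {R : Subgroup Ω} (hR : R ≤ S) {E : FusionSystem (normalizerIn S R)}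
    (hE : F.IsNormalizerSystem R E) : E.autGroup R = F.autGroup R :=
  le_antisymm (autGroup_mono (normSys_sub hE) R) fun α hα =>
    M.mem_autGroup (normSys_M_aut hR hE ((mem_autGroup_iff hR).1 hα) (im_efn α))

/-- The core of the normalizer system of a centric radical subgroup is that subgroup. -/
theorem normSys_core_of_radical [Finite S] (hS : IsPGroup p S) {R : Subgroup Ω}
    (hc : centralizerIn S R ≤ R) (hr : F.IsRadical p R)
    {E : FusionSystem (normalizerIn S R)} (hE : F.IsNormalizerSystem R E) : E.core = R := by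
  have := finite_normalizerIn (S := S) R
  refine le_antisymm (fun u hu => ?_) (le_core (normSys_isNormal hr.1 hE))
  have h1 := autInducedBy_le_opIn (F := F) hS hr.1 ((core_le E).trans inf_le_left) fun α hα => by
    obtain ⟨g, hg, e, him⟩ := normal_extend (core_normal E)
      (normSys_M_aut hr.1 hE ((mem_autGroup_iff hr.1).1 hα) (im_efn α))
    exact ⟨g, M.of_sub (normSys_sub hE) hg, e, him⟩
  exact mem_of_cjAut_mem_Inn hr.1 hc (core_le E hu)
    (hr.2 ▸ h1 (cjAut_mem_autInducedBy hu (core_le E hu).2))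

end Cfsg.Agent.H92
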