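import Cfsg.Agent.H92.Reduce
import Cfsg.Agent.H94.Transfer

/-! Control of normality, of the centre and of transfer by a characteristic functor. -/

namespace Cfsg.Agent.H92

open Cfsg Cfsg.FusionSystem Cfsg.Agent.H91 Cfsg.Agent.H93
open scoped commutatorElement

universe u

theorem NM_group_iff {G : Type*} [Group G] {S Q P : Subgroup G} (hQ : Q ≤ S) {f : G → G} :
    NM (groupFusionSystem S) Q P f ↔ P ≤ normalizerIn S Q ∧ (∀ x ∈ P, f x ∈ S) ∧
      ∃ g ∈ Subgroup.normalizer (Q : Set G), ∀ x ∈ P, f x = g * x * g⁻¹ := by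
  constructor
  · rintro ⟨hP, k, hk, e, him⟩
    obtain ⟨-, h2, g, hg⟩ := M_group_iff.1 hk
    refine ⟨hP, fun x hx => e x hx ▸ h2 x (le_sup_left (a := P) hx), g, ?_,
      fun x hx => (e x hx).symm.trans (hg x (le_sup_left (a := P) hx))⟩
    rw [mem_normalizer_iff_im_conj, ← im_congr fun x hx => hg x (le_sup_right (b := Q) hx), him]
  · rintro ⟨hP, h2, g, hg, e⟩
    refine ⟨hP, _, M_group_conj (g := g) (sup_le (hP.trans (normalizerIn_le _ _)) hQ) ?_,
      fun x hx => (e x hx).symm, mem_normalizer_iff_im_conj.1 hg⟩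
    rw [← im_le_iff (f := fun x => g * x * g⁻¹), (homOn_conj _ g).im_sup,
      mem_normalizer_iff_im_conj.1 hg]
    exact sup_le (im_le_iff.2 fun x hx => e x hx ▸ h2 x hx) hQ

theorem FIso.NM {Ω Ω' : Type*} [Group Ω] [Group Ω'] {S : Subgroup Ω} {S' : Subgroup Ω'}
    {F : FusionSystem S} {F' : FusionSystem S'} {j : Ω → Ω'} {k : Ω' → Ω} (h : FIso F F' j k)
    {Q P : Subgroup Ω} {f : Ω → Ω} (hf : NM F Q P f) :
    NM F' (im j Q) (im j P) fun y => j (f (k y)) := by
  have hQ : Q ≤ S := by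
    obtain ⟨-, g, hg, -⟩ := hf
    exact le_sup_right.trans hg.le
  exact (M_normFS (h.g.im_le hQ)).1 (h.normSys_fwd hQ rfl (normFS_isNormalizerSystem hQ)
    (normFS_isNormalizerSystem _) ((M_normFS hQ).2 hf))

/-- The focal subgroup theorem inside a subgroup. -/
theorem inf_commutator_le {G : Type*} [Group G] {p : ℕ} [Fact p.Prime] {T H K : Subgroup G}
    [Finite H] (hT : H91.SylIn p T H)
    (h : ∀ x ∈ T, ∀ g ∈ H, g * x * g⁻¹ ∈ T → x⁻¹ * (g * x * g⁻¹) ∈ K) : T ⊓ ⁅H, H⁆ ≤ K := by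
  intro y hy
  obtain ⟨z, hz, rfl⟩ := (H93.map_commutator_eq H).symm ▸ hy.2
  have h1 : z ∈ (hT.sylow : Subgroup H).focalSubgroup :=
    Subgroup.commutator_inf_eq_focalSubgroup hT.sylow ▸ ⟨hz, hy.1⟩
  have h2 : (hT.sylow : Subgroup H).focalSubgroup ≤ K.comap H.subtype := by
    rw [Subgroup.focalSubgroup_def, Subgroup.closure_le]
    rintro _ ⟨h3, x, hx, g, rfl⟩
    have hx' : (x : G) ∈ T := hx
    have h4 : ((⁅x, g⁆ : H) : G) ∈ T := h3
    have e : ((⁅x, g⁆ : H) : G) = (x : G)⁻¹⁻¹ * (g * (x : G)⁻¹ * (g : G)⁻¹) := by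
      simp [commutatorElement_def, mul_assoc]
    show ((⁅x, g⁆ : H) : G) ∈ K
    rw [e] at h4 ⊢
    exact h _ (T.inv_mem hx') g g.2 ((T.mul_mem_cancel_left (T.inv_mem (T.inv_mem hx'))).1 h4)
  exact h2 h1

theorem focal_group_le {G : Type*} [Group G] (S : Subgroup G) :
    (groupFusionSystem S).focalSubgroup ≤ commutator G :=
  focal_le_iff.2 fun P f hf x hx => by
    obtain ⟨-, -, g, e⟩ := M_group_iff.1 hf
    rw [e x hx, show x⁻¹ * (g * x * g⁻¹) = ⁅x⁻¹, g⁆ by simp [commutatorElement_def, mul_assoc]]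
    exact Subgroup.commutator_mem_commutator (Subgroup.mem_top _) (Subgroup.mem_top _)

/-- If all `F`-conjugates of powers of `x` are `S`-conjugates, `x` is focal only if in `[S, S]`. -/
theorem mem_commutator_of_focal {Ω : Type*} [Group Ω] {S : Subgroup Ω} {F : FusionSystem S} {p : ℕ}
    [Finite S] [hp : Fact p.Prime] (hS : IsPGroup p S) (hF : F.IsSaturated p) {Q : Subgroup Ω}
    (h : ∀ P f, M F P f → ∀ x ∈ P, x ∈ Q → ∃ s ∈ S, f x = s * x * s⁻¹) :
    F.focalSubgroup ⊓ Q ≤ ⁅S, S⁆ := by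
  intro z hz
  obtain ⟨m, τ, hm, hinv, hev⟩ := H94.exists_transfer hS hF (Abelianization.of : S →* _)
  have hfoc : F.focalSubgroup ≤ τ.ker.map S.subtype := focal_le_iff.2 fun P f hf x hx => by
    refine ⟨(⟨x, hf.le hx⟩ : S)⁻¹ * ⟨f x, hf.mem hx⟩, ?_, rfl⟩
    show τ _ = 1
    rw [map_mul, map_inv, hinv P _ hf ⟨x, hf.le hx⟩ ⟨f x, hf.mem hx⟩ hx rfl, inv_mul_cancel]
  obtain ⟨a, ha, rfl⟩ := hfoc hz.1
  obtain ⟨ι, _, k, t, h1, h2, h3⟩ := hev a
  have ht : ∀ i, Abelianization.of (t i) = Abelianization.of a ^ k i := fun i => by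
    obtain ⟨f, hf, e⟩ := isConjElt_iff.1 (h2 i)
    obtain ⟨s, hs, e'⟩ := h _ f hf _ (Subgroup.mem_zpowers _) (Q.pow_mem hz.2 _)
    have : t i = ⟨s, hs⟩ * a ^ k i * ⟨s, hs⟩⁻¹ := Subtype.ext (e.symm.trans e')
    rw [this, map_mul, map_mul, map_inv, mul_inv_cancel_comm, map_pow]
  have h4 : Abelianization.of a ^ m = 1 := by
    have : τ a = 1 := ha
    rw [← this, h3, ← h1, ← Finset.prod_pow_eq_pow_sum]
    exact Finset.prod_congr rfl fun i _ => (ht i).symm
  obtain ⟨n, hn⟩ := hS a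
  have h5 : Abelianization.of a ^ p ^ n = 1 := by rw [← map_pow, hn, map_one]
  have h6 : Abelianization.of a = 1 := by
    have hc : Nat.Coprime m (p ^ n) :=
      Nat.Coprime.pow_right _ ((hp.out.coprime_iff_not_dvd.2 hm).symm)
    have := pow_gcd_eq_one.2 ⟨h4, h5⟩
    rwa [hc, pow_one] at this
  rw [← H93.map_commutator_eq]
  exact ⟨a, by rwa [← Abelianization.ker_of], rfl⟩

/-- A class of saturated fusion systems closed under saturated subsystems and factor systems. -/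
structure ClosedClass (p : ℕ)
    (C : ∀ (Ω : Type u) [Group Ω] (S : Subgroup Ω), FusionSystem S → Prop) : Prop where
  sub : ∀ (Ω : Type u) [Group Ω] (S T : Subgroup Ω) [Finite S] (F : FusionSystem S)
    (E : FusionSystem T), IsPGroup p S → F.IsSaturated p → E.IsSaturated p → E.IsSubsystemOf F →
    C Ω S F → C Ω T E
  fac : ∀ (Ω Ω' : Type u) [Group Ω] [Group Ω'] (S : Subgroup Ω) (S' : Subgroup Ω') [Finite S]
    (F : FusionSystem S) (E : FusionSystem S') (θ : S →* Ω'), IsPGroup p S → F.IsSaturated p →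
    Fac F E θ → F.IsNormal (preimageAlong θ ⊥) → C Ω S F → C Ω' S' E

theorem closedClass_true (p : ℕ) : ClosedClass.{u} p fun _ _ _ _ => True :=
  ⟨fun _ _ _ _ _ _ _ _ _ _ _ _ => trivial, fun _ _ _ _ _ _ _ _ _ _ _ _ _ _ _ => trivial⟩

variable {p : ℕ} [Fact p.Prime] {W : ∀ (Q : Type u) [Group Q], Subgroup Q}
  {C : ∀ (Ω : Type u) [Group Ω] (S : Subgroup Ω), FusionSystem S → Prop}

theorem ClosedClass.model (hC : ClosedClass p C) {Ω : Type u} [Group Ω] {S : Subgroup Ω} [Finite S]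
    {F : FusionSystem S} (hS : IsPGroup p S) (hF : F.IsConstrained p) (h : C Ω S F) :
    ∃ (G : Type u) (_ : Group G) (_ : Finite G) (P : Sylow p G) (j : Ω → G) (k : G → Ω),
      Subgroup.centralizer ((pCore p G : Subgroup G) : Set G) ≤ pCore p G ∧
      FIso F (groupFusionSystem (P : Subgroup G)) j k ∧
      C G P (groupFusionSystem (P : Subgroup G)) := by
  obtain ⟨G, _, ι, hι⟩ := exists_model hS hF
  obtain ⟨P, k, -, hP⟩ := model_fIso hι
  refine ⟨G, inferInstance, hι.1, P, _, k, hι.2.2.2, hP,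
    hC.fac _ _ _ _ _ _ ι hS hF.1 (fac_of_fIso hP) ?_ h⟩
  rw [pre_bot_eq_ker, (MonoidHom.ker_eq_bot_iff ι).2 hι.2.1.1, Subgroup.map_bot]
  exact H91.normal_bot F

theorem FIso.im_induced {Ω Ω' : Type u} [Group Ω] [Group Ω'] {S : Subgroup Ω} {S' : Subgroup Ω'}
    {F : FusionSystem S} {F' : FusionSystem S'} {j : Ω → Ω'} {k : Ω' → Ω} [Finite S]
    (h : FIso F F' j k) (hW : IsCharPFunctor.{u} p W) (hS : IsPGroup p S) :
    im j (inducedFunctor W S) = inducedFunctor W S' := by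
  rw [im_inducedFunctor hW hS h.g.hj h.g.injOn, h.g.im_top]

/-- Control of normality. -/
theorem normal_ctrl (hW : IsCharPFunctor.{u} p W) (hC : ClosedClass p C)
    (hloc : ∀ (G : Type u) [Group G] [Finite G] (P : Sylow p G),
      Subgroup.centralizer ((pCore p G : Subgroup G) : Set G) ≤ pCore p G →
      C G P (groupFusionSystem (P : Subgroup G)) → (inducedFunctor W (P : Subgroup G)).Normal)
    (Ω : Type u) [Group Ω] (S : Subgroup Ω) [Finite S] (F : FusionSystem S) :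
    IsPGroup p S → F.IsSaturated p → C Ω S F → F.IsNormal (inducedFunctor W S) := by
  refine fs_ind (C := fun Ω _ S _ F => IsPGroup p S → F.IsSaturated p → C Ω S F →
    F.IsNormal (inducedFunctor W S)) ?_ Ω S F
  intro Ω _ S _ F ih1 ih2 hS hF hCF
  have hw := fctr_induced hS F hW
  have hwS := hw.le S le_rfl
  rcases reduce hS hF (G := normFS F hwS) hw (fun P f h => (M_normFS hwS).2 h)
    (fun T _ E hE hEF hne _ h => isSubsystemOf_iff_M.2 fun P f hf => h P f
      ((isNormal_iff_NM.1 (ih1 T E hEF hne (isPGroup_of_le hS (le_of_isSubsystemOf hEF)) hE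
        (hC.sub _ _ _ _ _ hS hF hE hEF hCF))).2 P f hf))
    (induced_ne_bot hS hW) (normalizerIn_eq_of_le hw.le_normalizer).ge with h | ⟨h1, h | ⟨h2, h3⟩⟩
  · exact normal_of_sub_normFS hwS h
  · obtain ⟨G, _, _, P, j, k, hc, hi, hCG⟩ := hC.model hS h hCF
    haveI := hloc G P hc hCG
    have := hi.symm.isNormal (isNormal_group_of_normal (R := inducedFunctor W (P : Subgroup G))
      (Subgroup.map_subtype_le _))
    rwa [hi.symm.im_induced hW P.isPGroup'] at this
  · obtain ⟨Ω', _, S', _, E, θ, hE, hK, hS', hE'⟩ :=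
      exists_quot hS hF (stronglyClosed_of_normal (H91.core_normal F))
    have hn := hK ▸ H91.core_normal F
    have h4 := ih2 Ω' S' E (Fac.card_lt hE (hK ▸ h1)) hS' hE' (hC.fac _ _ _ _ _ _ θ hS hF hE hn hCF)
    refine absurd ?_ (Fac.pre_not_le hE h4.1 (induced_ne_bot hS' hW S' le_rfl
      (Fac.ne_bot hE (hK ▸ h2))))
    rw [hK]
    exact H91.le_core (Fac.normal_pre hS hF hE hn (hK ▸ h3) h4)

/-- Control of the centre. -/
theorem center_ctrl (hW : IsCharPFunctor.{u} p W) (hC : ClosedClass p C) (e : ℕ)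
    (hWZ : ∀ (Q : Type u) [Group Q] [Finite Q], IsPGroup p Q → Subgroup.center Q ≤ W Q)
    (hloc : ∀ (G : Type u) [Group G] [Finite G] (P : Sylow p G),
      Subgroup.centralizer ((pCore p G : Subgroup G) : Set G) ≤ pCore p G →
      C G P (groupFusionSystem (P : Subgroup G)) → ∀ z ∈ centralizerIn (P : Subgroup G) P,
      (∀ g ∈ Subgroup.normalizer ((inducedFunctor W (P : Subgroup G) : Subgroup G) : Set G),
        g * z ^ e * g⁻¹ = z ^ e) → ∀ g : G, g * z ^ e * g⁻¹ ∈ (P : Subgroup G) →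
        g * z ^ e * g⁻¹ = z ^ e)
    (Ω : Type u) [Group Ω] (S : Subgroup Ω) [Finite S] (F : FusionSystem S) :
    IsPGroup p S → F.IsSaturated p → C Ω S F → ∀ z ∈ centralizerIn S S,
      (∀ P f, NM F (inducedFunctor W S) P f → z ^ e ∈ P → f (z ^ e) = z ^ e) →
      z ^ e ∈ F.center := by
  refine fs_ind (C := fun Ω _ S _ F => IsPGroup p S → F.IsSaturated p → C Ω S F →
    ∀ z ∈ centralizerIn S S, (∀ P f, NM F (inducedFunctor W S) P f → z ^ e ∈ P →
      f (z ^ e) = z ^ e) → z ^ e ∈ F.center) ?_ Ω S F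
  intro Ω _ S _ F ih1 ih2 hS hF hCF z hz hfix
  have hw := fctr_induced hS F hW
  have hwS := hw.le S le_rfl
  have hx : z ^ e ∈ centralizerIn S S := Subgroup.pow_mem _ hz e
  have hX : Subgroup.zpowers (z ^ e) ≤ S := (Subgroup.zpowers_le).2 hx.1
  have hSU : S ≤ centralizerIn S (Subgroup.zpowers (z ^ e)) := fun g hg =>
    mem_centralizerIn.2 ⟨hg, fun y hy =>
      ((mem_centralizerIn.1 ((Subgroup.zpowers_le).2 hx hy)).2 g hg).symm⟩
  have toC : ∀ {T : Subgroup Ω} [Finite T] {E : FusionSystem T}, E.IsSubsystemOf F →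
      z ^ e ∈ E.center → E.IsSubsystemOf (centFS F hX) := by
    intro T _ E hEF h
    refine isSubsystemOf_iff_M.2 fun P f hf => (M_centFS hX).2 ?_
    obtain ⟨g, hg, h1, h2⟩ := central_extend
      (H91.central_mono (H91.center_central E) ((Subgroup.zpowers_le).2 h)) hf
    exact ⟨(hf.of_sub hEF).le.trans hSU, g, hg.of_sub hEF, h1, h2⟩
  have fixC : ∀ {P f}, M (centFS F hX) P f → z ^ e ∈ P → f (z ^ e) = z ^ e := by
    intro P f hf hP
    obtain ⟨-, g, -, h1, h2⟩ := (M_centFS hX).1 hf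
    rw [← h1 _ hP, h2 _ (Subgroup.mem_zpowers _)]
  have hNS := normalizerIn_eq_of_le hw.le_normalizer
  have hN : ∀ P f, NM F (inducedFunctor W S) P f → M (centFS F hX) P f := by
    haveI := finite_normalizerIn (S := S) (inducedFunctor W S)
    have := toC (normFS_sub F hwS) ((mem_center_iff (isPGroup_of_le hS (normalizerIn_le _ _))
      (normFS_saturated hS hF (isFullyNormalized_of_normal F hwS hw.le_normalizer))).2
      ⟨hNS.ge hx.1, fun P f hf => hfix P f ((M_normFS hwS).1 hf)⟩)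
    exact fun P f hf => ((M_normFS hwS).2 hf).of_sub this
  have hsub : ∀ (T : Subgroup Ω) [Finite T] (E : FusionSystem T), E.IsSaturated p →
      E.IsSubsystemOf F → ¬ F.IsSubsystemOf E → centralizerIn S S ≤ T →
      (∀ P f, NM E (inducedFunctor W T) P f → M (centFS F hX) P f) →
      E.IsSubsystemOf (centFS F hX) := fun T _ E hE hEF hne hZ h =>
    toC hEF (ih1 T E hEF hne (isPGroup_of_le hS (le_of_isSubsystemOf hEF)) hE
      (hC.sub _ _ _ _ _ hS hF hE hEF hCF) z (mem_centralizerIn.2 ⟨hZ hz, fun y hy =>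
        (mem_centralizerIn.1 hz).2 y (le_of_isSubsystemOf hEF hy)⟩) fun P f hf => fixC (h P f hf))
  rcases reduce hS hF hw hN hsub (induced_ne_bot hS hW) hSU with h | ⟨h1, h | ⟨h2, h3⟩⟩
  · exact (mem_center_iff hS hF).2 ⟨hx.1, fun P f hf => fixC (hf.of_sub h)⟩
  · obtain ⟨G, _, _, P, j, k, hc, hi, hCG⟩ := hC.model hS h hCF
    have hjz : j z ∈ centralizerIn (P : Subgroup G) P := by
      rw [← hi.g.im_top, ← hi.g.im_centralizerIn' le_rfl le_rfl]; exact mem_im_of_mem j hz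
    have hjx : j (z ^ e) = j z ^ e := hi.g.hj.map_pow hz.1 e
    have hWP : inducedFunctor W (P : Subgroup G) ≤ P := Subgroup.map_subtype_le _
    have hxW : j z ^ e ∈ inducedFunctor W (P : Subgroup G) := by
      have h' := Subgroup.pow_mem _ hjz e
      exact ⟨⟨_, h'.1⟩, hWZ _ P.isPGroup' (Subgroup.mem_center_iff.2 fun y =>
        Subtype.ext ((mem_centralizerIn.1 h').2 y y.2)), rfl⟩
    have key := hloc G P hc hCG (j z) hjz fun g hg => by
      have h1 := hi.symm.NM ((NM_group_iff hWP).2 ⟨le_normalizerIn hWP,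
        fun y hy => hWP (conj_mem_of_mem_normalizer hg hy), g, hg, fun _ _ => rfl⟩)
      rw [hi.symm.im_induced hW P.isPGroup'] at h1
      have h2 := hfix _ _ h1 (by
        rw [← hi.symm.im_induced hW P.isPGroup', ← hi.g.kj _ hx.1, hjx]
        exact mem_im_of_mem k hxW)
      have h3 := congrArg j h2
      rwa [hjx, hi.g.jk _ (hWP (conj_mem_of_mem_normalizer hg hxW))] at h3
    refine (mem_center_iff hS hF).2 ⟨hx.1, fun R f hf hR => ?_⟩
    obtain ⟨-, h2, g, e'⟩ := M_group_iff.1 (hi.fwd hf)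
    have h3 := e' _ (mem_im_of_mem j hR)
    have h4 := h2 _ (mem_im_of_mem j hR)
    simp only [hi.g.kj _ hx.1] at h3 h4
    rw [h3, hjx] at h4
    refine hi.g.injOn (hf.mem hR) hx.1 ?_
    rw [h3, hjx, key g h4]
  · obtain ⟨Ω', _, S', _, E, θ, hE, hK, hS', hE'⟩ :=
      exists_quot hS hF (stronglyClosed_of_normal (H91.core_normal F))
    have hn := hK ▸ H91.core_normal F
    have hw' := fctr_induced hS' E hW
    have hθ : fn θ (z ^ e) = fn θ z ^ e := (homOn_fn θ).map_pow hz.1 e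
    have hXn := reduce_norm hS hF hw hN hsub (pre_le θ _) (Fac.le_normalizer_pre hE hw'.le_normalizer)
      fun h' => Fac.pre_not_le hE (hw'.le _ le_rfl) (induced_ne_bot hS' hW S' le_rfl
        (Fac.ne_bot hE (hK ▸ h2))) (hK ▸ H91.le_core h')
    have h4 := ih2 Ω' S' E (Fac.card_lt hE (hK ▸ h1)) hS' hE' (hC.fac _ _ _ _ _ _ θ hS hF hE hn hCF)
      (fn θ z) (mem_centralizerIn.2 ⟨hE.fn_mem hz.1, fun y hy => by
        obtain ⟨x, hx', rfl⟩ := hE.exists_rep hy
        rw [← fn_mul hx' hz.1, ← fn_mul hz.1 hx', (mem_centralizerIn.1 hz).2 x hx']⟩)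
      fun P' f' hf' hP' => by
        obtain ⟨f, hf, e'⟩ := Fac.lift_NM hE hf'
        have h5 : z ^ e ∈ preimageAlong θ P' := mem_pre.2 ⟨hx.1, hθ ▸ hP'⟩
        rw [← hθ, e' _ h5, fixC (hXn _ _ hf) h5]
    have h5 : z ^ e ∈ F.core := by
      have := H91.center_le_core E h4
      rw [Fac.core_eq_bot hS hF hE hK h3] at this
      exact hK ▸ mem_pre.2 ⟨hx.1, hθ ▸ this⟩
    refine (mem_center_iff hS hF).2 ⟨hx.1, fun R f hf hR => ?_⟩
    obtain ⟨s, hs, e'⟩ := conj_of_aut_isPGroup hS hF (H91.core_normal F) h3 hf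
    rw [e' _ hR h5, (mem_centralizerIn.1 hx).2 s hs, mul_inv_cancel_right]

/-- Control of transfer. -/
theorem focal_ctrl (hW : IsCharPFunctor.{u} p W) (hC : ClosedClass p C)
    (hloc : ∀ (G : Type u) [Group G] [Finite G] (P : Sylow p G),
      Subgroup.centralizer ((pCore p G : Subgroup G) : Set G) ≤ pCore p G →
      C G P (groupFusionSystem (P : Subgroup G)) → pCore p G ⊓ commutator G ≤
      ⁅Subgroup.normalizer ((inducedFunctor W (P : Subgroup G) : Subgroup G) : Set G),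
        Subgroup.normalizer ((inducedFunctor W (P : Subgroup G) : Subgroup G) : Set G)⁆)
    (Ω : Type u) [Group Ω] (S : Subgroup Ω) [Finite S] (F : FusionSystem S) :
    IsPGroup p S → F.IsSaturated p → C Ω S F → ∀ T : Subgroup Ω,
      (∀ P f, NM F (inducedFunctor W S) P f → ∀ x ∈ P, x⁻¹ * f x ∈ T) →
      F.focalSubgroup ≤ T := by
  refine fs_ind (C := fun Ω _ S _ F => IsPGroup p S → F.IsSaturated p → C Ω S F →
    ∀ T : Subgroup Ω, (∀ P f, NM F (inducedFunctor W S) P f → ∀ x ∈ P, x⁻¹ * f x ∈ T) →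
      F.focalSubgroup ≤ T) ?_ Ω S F
  intro Ω _ S _ F ih1 ih2 hS hF hCF T₀ hT₀
  have hw := fctr_induced hS F hW
  have hwS := hw.le S le_rfl
  have hNS := normalizerIn_eq_of_le hw.le_normalizer
  set T := T₀ ⊓ F.focalSubgroup with hTdef
  have hT : ∀ P f, NM F (inducedFunctor W S) P f → ∀ x ∈ P, x⁻¹ * f x ∈ T :=
    fun P f hf x hx => ⟨hT₀ P f hf x hx, H93.mem_focal hf.toM hx⟩
  have hTS : T ≤ S := inf_le_right.trans (focal_le F)
  refine le_trans ?_ (inf_le_left : T ≤ T₀)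
  have hc : ⁅S, S⁆ ≤ T := by
    exact ((Subgroup.commutator_mono hNS.ge hNS.ge).trans (commutator_le_focal (normFS F hwS))).trans
      (focal_le_iff.2 fun P f hf => hT P f ((M_normFS hwS).1 hf))
  have hD := predData_modT F hc
  have hN : ∀ P f, NM F (inducedFunctor W S) P f → M hD.fs P f :=
    fun P f hf => hD.M_iff.2 ⟨hf.toM, hT P f hf⟩
  have hsub : ∀ (U : Subgroup Ω) [Finite U] (E : FusionSystem U), E.IsSaturated p →
      E.IsSubsystemOf F → ¬ F.IsSubsystemOf E → centralizerIn S S ≤ U →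
      (∀ P f, NM E (inducedFunctor W U) P f → M hD.fs P f) → E.IsSubsystemOf hD.fs :=
    fun U _ E hE hEF hne _ h => isSubsystemOf_iff_M.2 fun P f hf => hD.M_iff.2 ⟨hf.of_sub hEF,
      focal_le_iff.1 (ih1 U E hEF hne (isPGroup_of_le hS (le_of_isSubsystemOf hEF)) hE
        (hC.sub _ _ _ _ _ hS hF hE hEF hCF) T fun P f hf => (hD.M_iff.1 (h P f hf)).2) P f hf⟩
  rcases reduce hS hF hw hN hsub (induced_ne_bot hS hW) le_rfl with h | ⟨h1, h⟩
  · exact focal_le_iff.2 fun P f hf => (hD.M_iff.1 (hf.of_sub h)).2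
  have hQ := H91.core_normal F
  have hQs := stronglyClosed_of_normal hQ
  have key : F.focalSubgroup ≤ T ⊔ F.core := by
    by_cases h2 : F.core = S
    · exact (focal_le F).trans (h2.ge.trans le_sup_right)
    obtain ⟨Ω', _, S', _, E, θ, hE, hK, hS', hE'⟩ := exists_quot hS hF hQs
    have hw' := fctr_induced hS' E hW
    have hXn := reduce_norm hS hF hw hN hsub (pre_le θ _) (Fac.le_normalizer_pre hE hw'.le_normalizer)
      fun h' => Fac.pre_not_le hE (hw'.le _ le_rfl) (induced_ne_bot hS' hW S' le_rfl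
        (Fac.ne_bot hE (hK ▸ h2))) (hK ▸ H91.le_core h')
    have h4 := ih2 Ω' S' E (Fac.card_lt hE (hK ▸ h1)) hS' hE'
      (hC.fac _ _ _ _ _ _ θ hS hF hE (hK ▸ hQ) hCF) (im (fn θ) T) fun P' f' hf' y hy => by
        obtain ⟨f, hf, e'⟩ := Fac.lift_NM hE hf'
        obtain ⟨x, hx, rfl⟩ := hE.exists_pre hf'.toM.le hy
        rw [e' x hx, ← fn_inv (pre_le θ _ hx), ← fn_mul (S.inv_mem (pre_le θ _ hx)) (hf.toM.mem hx)]
        exact mem_im_of_mem _ ((hD.M_iff.1 (hXn _ _ hf)).2 x hx)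
    rw [hE.focal_eq hS hF (hK ▸ hQs)] at h4
    rw [← hK, ← pre_im hTS]
    exact fun x hx => mem_pre.2 ⟨focal_le F hx, h4 (mem_im_of_mem _ hx)⟩
  suffices hQT : F.focalSubgroup ⊓ F.core ≤ T by
    intro y hy
    obtain ⟨t, ht, q, hq, rfl⟩ := (mem_sup_iff_of_normalizes
      (hTS.trans (le_normalizer_of_stronglyClosed hQs))).1 (key hy)
    exact T.mul_mem ht (hQT ⟨(Subgroup.mul_mem_cancel_left _ ht.2).1 hy, hq⟩)
  rcases h with h | ⟨-, h3⟩
  · obtain ⟨G, _, _, P, j, k, hc', hi, hCG⟩ := hC.model hS h hCF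
    have hWP : inducedFunctor W (P : Subgroup G) ≤ P := Subgroup.map_subtype_le _
    have hPN : (P : Subgroup G) ≤ Subgroup.normalizer (inducedFunctor W (P : Subgroup G) : Set G) :=
      (fctr_induced P.isPGroup' (groupFusionSystem (P : Subgroup G)) hW).le_normalizer
    intro q hq
    have hqS := focal_le F hq.1
    have h5 := hloc G P hc' hCG (x := j q) ⟨by
      rw [← core_group_of_charP P hc', ← hi.core]; exact mem_im_of_mem j hq.2,
      focal_group_le _ (hi.focal_le (mem_im_of_mem j hq.1))⟩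
    refine (hi.g.apply_mem_im_iff hTS hqS).1 (inf_commutator_le
      ((H91.sylIn_top P).of_le hPN le_top) (fun y hy g hg hgy => ?_) ⟨hi.g.mj q hqS, h5⟩)
    have hy' : Subgroup.zpowers y ≤ P := (Subgroup.zpowers_le).2 hy
    have h6 := hi.symm.NM ((NM_group_iff hWP).2 ⟨le_inf hy' (hy'.trans hPN), fun x hx => by
      obtain ⟨n, rfl⟩ := hx
      exact conj_zpow (a := g) (b := y) (i := n) ▸ Subgroup.zpow_mem _ hgy n, g, hg,
      fun _ _ => rfl⟩)
    rw [hi.symm.im_induced hW P.isPGroup'] at h6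
    have h7 := mem_im_of_mem j (hT _ _ h6 _ (mem_im_of_mem k (Subgroup.mem_zpowers y)))
    rwa [hi.g.jk y hy, hi.g.hj.map_mul (S.inv_mem (hi.g.mk' y hy)) (hi.g.mk' _ hgy),
      hi.g.hj.map_inv (hi.g.mk' y hy), hi.g.jk y hy, hi.g.jk _ hgy] at h7
  · refine (mem_commutator_of_focal hS hF fun P f hf x hx hxQ => ?_).trans hc
    obtain ⟨s, hs, e'⟩ := conj_of_aut_isPGroup hS hF hQ h3 hf
    exact ⟨s, hs, e' x hx hxQ⟩

end Cfsg.Agent.H92
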